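import Mathlib.AlgebraicGeometry.IdealSheaf.Subscheme
import Mathlib.AlgebraicGeometry.IdealSheaf.Functorial
import Mathlib.AlgebraicGeometry.Morphisms.QuasiSeparated
import Mathlib.RingTheory.Localization.Finiteness

/-!
# Finite type ideal sheaves on quasi-compact quasi-separated schemes

An ideal sheaf which is finitely generated on an affine open contains a finite type ideal sheaf
agreeing with it there, and with the same support if the complement of the support is quasi-compact.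
-/

universe u

set_option autoImplicit false
set_option backward.isDefEq.respectTransparency false

open AlgebraicGeometry CategoryTheory TopologicalSpace Opposite

namespace Groth.Agent.FlatMorStrata

variable {S : Scheme.{u}}

/-- An ideal sheaf is of finite type if it is so on an affine open cover. -/
theorem fg_of_cover (G : S.IdealSheafData) {ι : Type*} (U : ι → S.affineOpens)
    (hU : (⨆ i, (U i : S.Opens)) = ⊤) (h : ∀ i, (G.ideal (U i)).FG) (V : S.affineOpens) :
    (G.ideal V).FG := by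
  refine AlgebraicGeometry.of_affine_open_cover (P := fun V : S.affineOpens => (G.ideal V).FG)
    U hU V (fun W f hW => ?_) (fun W s hs hW => ?_) h
  · rw [← G.map_ideal_basicOpen]
    exact hW.map _
  · refine Ideal.fg_of_localizationSpan _ hs fun g => ?_
    have := W.2.isLocalization_basicOpen g.1
    have h' := hW ⟨g.1, g.2⟩
    rw [← G.map_ideal_basicOpen] at h'
    rw [show algebraMap Γ(S, W.1) (Localization.Away g.1) =
      (IsLocalization.algEquiv (Submonoid.powers g.1) Γ(S, S.basicOpen g.1)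
        (Localization.Away g.1)).toAlgHom.toRingHom.comp (algebraMap Γ(S, W.1) _) from
      ((IsLocalization.algEquiv (Submonoid.powers g.1) Γ(S, S.basicOpen g.1)
        (Localization.Away g.1)).toAlgHom.comp_algebraMap).symm, ← Ideal.map_map]
    exact Ideal.FG.map h' _

/-- A finitely generated image ideal is the image of a finitely generated subideal. -/
theorem exists_fg_le_map_eq {A B : Type u} [CommRing A] [CommRing B] (φ : A →+* B) (J : Ideal A)
    (h : (J.map φ).FG) : ∃ L ≤ J, L.FG ∧ L.map φ = J.map φ := by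
  classical
  obtain ⟨t, ht, he⟩ := (Submodule.fg_span_iff_fg_span_finset_subset (φ '' (J : Set A))).1 h
  obtain ⟨t', ht', rfl⟩ := Finset.subset_set_image_iff.1 ht
  refine ⟨Ideal.span t', Ideal.span_le.2 ht', ⟨t', rfl⟩, ?_⟩
  rw [Ideal.map_span, Ideal.map, ← Finset.coe_image]
  exact he.symm

/-- The closure of a closed subscheme of an affine open restricts to it. -/
theorem ker_app_closure {S : Scheme.{u}} {V : S.Opens} (hV : IsAffineOpen V) (J : Ideal Γ(S, V))
    (hpre : (Spec.map (CommRingCat.ofHom (Ideal.Quotient.mk J)) ≫ hV.fromSpec) ⁻¹ᵁ V = ⊤) :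
    RingHom.ker ((Spec.map (CommRingCat.ofHom (Ideal.Quotient.mk J)) ≫ hV.fromSpec).app V).hom = J := by
  let φ : Γ(S, V) ⟶ CommRingCat.of (Γ(S, V) ⧸ J) := CommRingCat.ofHom (Ideal.Quotient.mk J)
  let h : Spec (.of (Γ(S, V) ⧸ J)) ⟶ S := Spec.map φ ≫ hV.fromSpec
  show RingHom.ker (h.app V).hom = J
  have e₁ : hV.fromSpec.appLE V ⊤ hV.fromSpec_preimage_self.ge =
      (Scheme.ΓSpecIso Γ(S, V)).inv := by
    rw [Scheme.Hom.appLE, hV.fromSpec_app_self, Category.assoc, ← Functor.map_comp]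
    simp
  have e : h.appLE V ⊤ hpre.ge = φ ≫ (Scheme.ΓSpecIso (.of (Γ(S, V) ⧸ J))).inv := by
    rw [← Scheme.Hom.appLE_comp_appLE (Spec.map φ) hV.fromSpec V ⊤ ⊤
      hV.fromSpec_preimage_self.ge le_top, e₁, Scheme.ΓSpecIso_inv_naturality]
    simp [Scheme.Hom.appLE, Scheme.Hom.appTop]
  have e₂ : h.app V = h.appLE V ⊤ hpre.ge ≫
      (Spec (.of (Γ(S, V) ⧸ J))).presheaf.map (eqToHom hpre).op := by
    rw [Scheme.Hom.appLE_map, ← Scheme.Hom.app_eq_appLE]
  ext a
  rw [RingHom.mem_ker, ← Ideal.Quotient.eq_zero_iff_mem (I := J), e₂, e,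
    CommRingCat.hom_comp, CommRingCat.hom_comp, RingHom.comp_apply, RingHom.comp_apply,
    map_eq_zero_iff _ (ConcreteCategory.bijective_of_isIso
      ((Spec (.of (Γ(S, V) ⧸ J))).presheaf.map (eqToHom hpre).op)).injective,
    map_eq_zero_iff _ (ConcreteCategory.bijective_of_isIso
      (Scheme.ΓSpecIso (.of (Γ(S, V) ⧸ J))).inv).injective]
  rfl

variable [QuasiSeparatedSpace S]

/-- One step: shrink `G` to be finitely generated on one more affine open `V`. -/
theorem exists_step (G : S.IdealSheafData) (s : Finset S.affineOpens)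
    (hs : ∀ M ∈ s, (G.ideal M).FG) (V : S.affineOpens) :
    ∃ G' ≤ G, (∀ M ∈ s, G'.ideal M = G.ideal M) ∧ (G'.ideal V).FG ∧
      (IsCompact (G.support : Set S)ᶜ → G'.support = G.support) := by
  classical
  have hV : IsAffineOpen V.1 := V.2
  -- basic opens of `V` covering each `V ⊓ M`
  have hcov : ∀ M ∈ s, ∃ t : Finset Γ(S, V.1),
      (∀ g ∈ t, (G.ideal (S.affineBasicOpen g)).FG) ∧
      ((M : S.Opens) : Set S) ∩ V.1 ⊆ ⋃ g ∈ t, (S.basicOpen g : Set S) := by
    intro M hM
    have hc : IsCompact (((M : S.Opens) : Set S) ∩ V.1) :=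
      M.2.isCompact.inter_of_isOpen hV.isCompact M.1.2 V.1.2
    obtain ⟨t, ht⟩ := hc.elim_finite_subcover
      (fun g : {g : Γ(S, V.1) // (G.ideal (S.affineBasicOpen g)).FG} => (S.basicOpen g.1 : Set S))
      (fun g => (S.basicOpen g.1).2) (fun x hx => by
        obtain ⟨f, g, e, hxf⟩ := exists_basicOpen_le_affine_inter M.2 hV x ⟨hx.1, hx.2⟩
        refine Set.mem_iUnion.2 ⟨⟨g, ?_⟩, e ▸ hxf⟩
        rw [show S.affineBasicOpen g = S.affineBasicOpen f from Subtype.ext e.symm,
          ← G.map_ideal_basicOpen]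
        exact (hs M hM).map _)
    refine ⟨t.image Subtype.val, fun g hg => ?_, ht.trans ?_⟩
    · obtain ⟨g, -, rfl⟩ := Finset.mem_image.1 hg
      exact g.2
    · simp only [Finset.set_biUnion_finset_image]
      exact subset_rfl
  choose! t htfg htcov using hcov
  have hL : ∀ g ∈ s.biUnion t, ∃ L ≤ G.ideal V, L.FG ∧
      L.map (S.presheaf.map (homOfLE (S.basicOpen_le g)).op).hom = G.ideal (S.affineBasicOpen g) := by
    intro g hg
    obtain ⟨M, hM, hgM⟩ := Finset.mem_biUnion.1 hg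
    rw [← G.map_ideal_basicOpen]
    exact exists_fg_le_map_eq _ _ (by rw [G.map_ideal_basicOpen]; exact htfg M hM g hgM)
  choose! L hLle hLfg hLmap using hL
  -- generators of the zero locus
  have hL₀ : ∃ L₀ ≤ G.ideal V, L₀.FG ∧ (IsCompact (G.support : Set S)ᶜ →
      ∀ x ∈ V.1, x ∉ G.support → ∃ g ∈ L₀, x ∈ S.basicOpen g) := by
    by_cases hc : IsCompact (G.support : Set S)ᶜ
    · have hc' : IsCompact ((G.support : Set S)ᶜ ∩ V.1) :=
        hc.inter_of_isOpen hV.isCompact G.support.2.isOpen_compl V.1.2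
      obtain ⟨t₀, ht₀⟩ := hc'.elim_finite_subcover
        (fun g : G.ideal V => (S.basicOpen g.1 : Set S)) (fun g => (S.basicOpen g.1).2)
        (fun x hx => by
          have h1 : x ∉ S.zeroLocus (U := V.1) (G.ideal V : Set Γ(S, V.1)) :=
            fun h => hx.1 ((G.mem_support_iff_of_mem hx.2).2 h)
          simp only [Scheme.mem_zeroLocus_iff, not_forall, not_not] at h1
          obtain ⟨g, hg, hxg⟩ := h1
          exact Set.mem_iUnion.2 ⟨⟨g, hg⟩, hxg⟩)
      refine ⟨Ideal.span (Subtype.val '' (t₀ : Set (G.ideal V))), ?_, ?_, fun _ x hxV hx => ?_⟩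
      · exact Ideal.span_le.2 (by rintro _ ⟨g, -, rfl⟩; exact g.2)
      · exact Submodule.fg_span (t₀.finite_toSet.image _)
      · obtain ⟨g, hg, hxg⟩ := Set.mem_iUnion₂.1 (ht₀ ⟨hx, hxV⟩)
        exact ⟨g.1, Ideal.subset_span ⟨g, hg, rfl⟩, hxg⟩
    · exact ⟨⊥, bot_le, Submodule.fg_bot, fun h => absurd h hc⟩
  obtain ⟨L₀, hL₀le, hL₀fg, hL₀supp⟩ := hL₀
  obtain ⟨J, hJ⟩ : ∃ J, J = L₀ ⊔ (s.biUnion t).sup L := ⟨_, rfl⟩
  have hJle : J ≤ G.ideal V := hJ ▸ sup_le hL₀le (Finset.sup_le fun g hg => hLle g hg)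
  have hJfg : J.FG := hJ ▸ Submodule.FG.sup hL₀fg (Finset.sup_induction (p := Submodule.FG) Submodule.fg_bot (fun _ h₁ _ h₂ => Submodule.FG.sup h₁ h₂) fun g hg => hLfg g hg)
  -- the closure of the closed subscheme of `V` cut out by `J`
  let φ : Γ(S, V.1) ⟶ CommRingCat.of (Γ(S, V.1) ⧸ J) := CommRingCat.ofHom (Ideal.Quotient.mk J)
  let h : Spec (.of (Γ(S, V.1) ⧸ J)) ⟶ S := Spec.map φ ≫ hV.fromSpec
  have hqc : QuasiCompact h := inferInstance
  have hpre : h ⁻¹ᵁ V.1 = ⊤ := by
    rw [Scheme.Hom.comp_preimage, hV.fromSpec_preimage_self]; rfl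
  have happ : RingHom.ker (h.app V.1).hom = J := ker_app_closure hV J hpre
  refine ⟨G ⊓ h.ker, inf_le_left, fun M hM => ?_, ?_, fun hc => ?_⟩
  · rw [Scheme.IdealSheafData.ideal_inf, Pi.inf_apply, inf_eq_left, Scheme.Hom.ker_apply]
    intro a ha
    rw [RingHom.mem_ker]
    apply (Spec (.of (Γ(S, V.1) ⧸ J))).IsSheaf.section_ext
    intro z hz
    have hzV : h z ∈ V.1 := by
      have : z ∈ h ⁻¹ᵁ V.1 := hpre.ge trivial
      exact this
    obtain ⟨g, hg, hzg⟩ := Set.mem_iUnion₂.1 (htcov M hM ⟨hz, hzV⟩)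
    obtain ⟨D, hD, hzD, hDle⟩ := exists_isAffineOpen_mem_and_subset
      (x := h z) (U := M.1 ⊓ S.basicOpen g) ⟨hz, hzg⟩
    have hDM : D ≤ M.1 := le_trans hDle inf_le_left
    have hDg : D ≤ S.basicOpen g := le_trans hDle inf_le_right
    have hgs : g ∈ s.biUnion t := Finset.mem_biUnion.2 ⟨M, hM, hg⟩
    refine ⟨h ⁻¹ᵁ D, Scheme.Hom.preimage_mono h hDM, hzD, ?_⟩
    have haD : (S.presheaf.map (homOfLE hDM).op).hom a ∈
        J.map (S.presheaf.map (homOfLE (hDg.trans (S.basicOpen_le g))).op).hom := by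
      have h1 := G.ideal_le_comap_ideal (U := ⟨D, hD⟩) (V := M) hDM ha
      rw [Ideal.mem_comap, ← G.map_ideal (U := ⟨D, hD⟩) (V := S.affineBasicOpen g) hDg,
        ← hLmap g hgs, Ideal.map_map, ← CommRingCat.hom_comp, ← Functor.map_comp] at h1
      exact Ideal.map_mono (hJ ▸ le_sup_of_le_right (Finset.le_sup (f := L) hgs)) h1
    have hz0 : (h.app D).hom ((S.presheaf.map (homOfLE hDM).op).hom a) = 0 := by
      refine RingHom.mem_ker.1 ((Ideal.map_le_iff_le_comap.2 fun l hl => ?_) haD)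
      rw [Ideal.mem_comap, RingHom.mem_ker]
      have := congr($(h.naturality (homOfLE (hDg.trans (S.basicOpen_le g))).op).hom l)
      simp only [CommRingCat.hom_comp, RingHom.comp_apply] at this
      rw [this, RingHom.mem_ker.1 (happ.ge hl), map_zero]
    have := congr($(h.naturality (homOfLE hDM).op).hom a)
    simp only [CommRingCat.hom_comp, RingHom.comp_apply] at this
    rw [map_zero]
    exact this.symm.trans hz0
  · rw [Scheme.IdealSheafData.ideal_inf, Pi.inf_apply, Scheme.Hom.ker_apply, happ,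
      inf_eq_right.2 hJle]
    exact hJfg
  · apply le_antisymm
    · refine le_trans (Scheme.IdealSheafData.support_antitone (a := G * h.ker) ?_) ?_
      · intro U
        rw [Scheme.IdealSheafData.ideal_mul, Scheme.IdealSheafData.ideal_inf]
        exact Ideal.mul_le_inf
      · rw [Scheme.IdealSheafData.support_mul, sup_le_iff]
        refine ⟨le_rfl, ?_⟩
        intro y hy
        rw [SetLike.mem_coe.symm, Scheme.Hom.support_ker] at hy
        refine closure_minimal ?_ G.support.2 hy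
        rintro _ ⟨z, rfl⟩
        by_contra hns
        have hzV : h z ∈ V.1 := by
          have : z ∈ h ⁻¹ᵁ V.1 := hpre.ge trivial
          exact this
        obtain ⟨g, hg, hzg⟩ := hL₀supp hc _ hzV hns
        have : z ∈ h ⁻¹ᵁ S.basicOpen g := hzg
        rw [Scheme.preimage_basicOpen, show (h.app V.1) g = 0 from
          RingHom.mem_ker.1 (happ.ge (hJ ▸ Ideal.mem_sup_left hg)), Scheme.basicOpen_zero] at this
        exact this
    · exact Scheme.IdealSheafData.support_antitone inf_le_left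

/-- Finite type ideal sheaves inside `G₀` agreeing with it on an affine open `U`. -/
theorem exists_fg_le [CompactSpace S] (G₀ : S.IdealSheafData) (U : S.affineOpens)
    (hU : (G₀.ideal U).FG) :
    ∃ G ≤ G₀, (∀ V : S.affineOpens, (G.ideal V).FG) ∧ G.ideal U = G₀.ideal U ∧
      (IsCompact (G₀.support : Set S)ᶜ → G.support = G₀.support) := by
  classical
  obtain ⟨c, hc⟩ := isCompact_univ.elim_finite_subcover (fun V : S.affineOpens => (V.1 : Set S))
    (fun V => V.1.2) (fun x _ => by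
      obtain ⟨V, hV, hxV, -⟩ := exists_isAffineOpen_mem_and_subset (x := x) (U := ⊤) (Set.mem_univ _)
      exact Set.mem_iUnion.2 ⟨⟨V, hV⟩, hxV⟩)
  suffices ∀ s : Finset S.affineOpens, ∃ G ≤ G₀, (∀ M ∈ s, (G.ideal M).FG) ∧
      G.ideal U = G₀.ideal U ∧ (IsCompact (G₀.support : Set S)ᶜ → G.support = G₀.support) by
    obtain ⟨G, h₁, h₂, h₃, h₄⟩ := this c
    refine ⟨G, h₁, fg_of_cover G (fun M : c => M.1) ?_ (fun M => h₂ M.1 M.2), h₃, h₄⟩
    refine top_le_iff.1 fun x _ => ?_
    obtain ⟨M, hM, hxM⟩ := Set.mem_iUnion₂.1 (hc (Set.mem_univ x))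
    exact Opens.mem_iSup.2 ⟨⟨M, hM⟩, hxM⟩
  intro s
  induction s using Finset.induction with
  | empty => exact ⟨G₀, le_rfl, by simp, rfl, fun _ => rfl⟩
  | @insert V s _ ih =>
    obtain ⟨G, h₁, h₂, h₃, h₄⟩ := ih
    obtain ⟨G', k₁, k₂, k₃, k₄⟩ := exists_step G (insert U s) (fun M hM => by
      rcases Finset.mem_insert.1 hM with rfl | hM
      · exact h₃ ▸ hU
      · exact h₂ M hM) V
    refine ⟨G', k₁.trans h₁, fun M hM => ?_, (k₂ U (Finset.mem_insert_self _ _)).trans h₃,
      fun hc => ?_⟩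
    · rcases Finset.mem_insert.1 hM with rfl | hM
      · exact k₃
      · rw [k₂ M (Finset.mem_insert_of_mem hM)]
        exact h₂ M hM
    · rw [k₄ (by rw [h₄ hc]; exact hc), h₄ hc]

/-- Finitely generated ideals on affine opens extend to finite type ideal sheaves. -/
theorem exists_fg_extend [CompactSpace S] (U : S.affineOpens) (K : Ideal Γ(S, U.1)) (hK : K.FG) :
    ∃ G : S.IdealSheafData, (∀ V : S.affineOpens, (G.ideal V).FG) ∧ G.ideal U = K := by
  let h : Spec (.of (Γ(S, U.1) ⧸ K)) ⟶ S :=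
    Spec.map (CommRingCat.ofHom (Ideal.Quotient.mk K)) ≫ U.2.fromSpec
  have hqc : QuasiCompact h := inferInstance
  have hpre : h ⁻¹ᵁ U.1 = ⊤ := by
    rw [Scheme.Hom.comp_preimage, U.2.fromSpec_preimage_self]; rfl
  have hG₀ : h.ker.ideal U = K := by
    rw [Scheme.Hom.ker_apply]
    exact ker_app_closure U.2 K hpre
  obtain ⟨G, -, hG, hGU, -⟩ := exists_fg_le h.ker U (by rw [hG₀]; exact hK)
  exact ⟨G, hG, hGU.trans hG₀⟩

/-- A finite type ideal sheaf whose support is the complement of a quasi-compact open affine. -/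
theorem exists_fg_support_compl [CompactSpace S] (U : S.affineOpens) :
    ∃ G : S.IdealSheafData, (∀ V : S.affineOpens, (G.ideal V).FG) ∧
      (G.support : Set S) = (U.1 : Set S)ᶜ := by
  let Z : Closeds S := ⟨(U.1 : Set S)ᶜ, U.1.2.isClosed_compl⟩
  let G₀ := Scheme.IdealSheafData.vanishingIdeal Z
  have hsupp : (G₀.support : Set S) = (U.1 : Set S)ᶜ :=
    rfl
  have hU : G₀.ideal U = ⊤ := by
    by_contra hne
    obtain ⟨m, hm, hle⟩ := Ideal.exists_le_maximal _ hne
    have hx : U.2.fromSpec ⟨m, hm.isPrime⟩ ∈ U.1 := by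
      have : U.2.fromSpec ⟨m, hm.isPrime⟩ ∈ Set.range U.2.fromSpec := ⟨_, rfl⟩
      rwa [U.2.range_fromSpec] at this
    have : U.2.fromSpec ⟨m, hm.isPrime⟩ ∈ (G₀.support : Set S) := by
      refine (G₀.mem_support_iff_of_mem hx).2 (Scheme.mem_zeroLocus_iff _ _ _ |>.2 fun f hf hxf => ?_)
      have : (⟨m, hm.isPrime⟩ : PrimeSpectrum Γ(S, U.1)) ∈ U.2.fromSpec ⁻¹ᵁ S.basicOpen f := hxf
      rw [U.2.fromSpec_preimage_basicOpen] at this
      exact this (hle hf)
    rw [hsupp] at this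
    exact this hx
  obtain ⟨G, -, hG, -, hGs⟩ := exists_fg_le G₀ U (hU ▸ ⟨{1}, by simp⟩)
  refine ⟨G, hG, ?_⟩
  rw [hGs (by rw [hsupp, compl_compl]; exact U.2.isCompact), hsupp]

end Groth.Agent.FlatMorStrata
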