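import Groth.Agent.EGA43.InjFibre.Scheme
import Groth.Agent.EGA43.FlatOpen

/-!
# Base change of flatness at a point
-/

universe u

set_option autoImplicit false
set_option backward.isDefEq.respectTransparency false

open TensorProduct Function

namespace Groth.Agent.FlatMorStrata

/-- Flatness after localisation is stable under base change. -/
theorem flat_localized_baseChange {A B A' B' : Type u} [CommRing A] [CommRing B] [CommRing A']
    [CommRing B'] [Algebra A B] [Algebra A A'] [Algebra A' B'] [Algebra B B']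
    {M P : Type u} [AddCommGroup M] [Module A M] [Module B M] [IsScalarTower A B M]
    [AddCommGroup P] [Module A P] [Module A' P] [Module B' P] [IsScalarTower A' B' P]
    [IsScalarTower A A' P] (μ : M →ₗ[A] P) (hμ : IsBaseChange A' μ)
    (hμB : ∀ (b : B) m, μ (b • m) = algebraMap B B' b • μ m)
    (T : Submonoid B) (T' : Submonoid B') (hT : ∀ t ∈ T, algebraMap B B' t ∈ T')
    [Module.Flat A (LocalizedModule T M)] : Module.Flat A' (LocalizedModule T' P) := by
  rw [Module.Flat.iff_rTensor_preserves_injective_linearMap]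
  intro X Y _ _ _ _ i hi
  let _ : Module A X := Module.compHom X (algebraMap A A')
  let _ : Module A Y := Module.compHom Y (algebraMap A A')
  have : IsScalarTower A A' X := IsScalarTower.of_algebraMap_smul fun _ _ => rfl
  have : IsScalarTower A A' Y := IsScalarTower.of_algebraMap_smul fun _ _ => rfl
  let iA : X →ₗ[A] Y := i.restrictScalars A
  let κ : ∀ (Z : Type u) [AddCommGroup Z] [Module A Z] [Module A' Z] [IsScalarTower A A' Z],
      M ⊗[A] Z ≃+ P ⊗[A'] Z := fun Z _ _ _ _ =>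
    (TensorProduct.comm A M Z).toAddEquiv.trans
      ((AlgebraTensorModule.cancelBaseChange A A' A' Z M).symm.toAddEquiv.trans
        ((LinearEquiv.lTensor Z hμ.equiv).toAddEquiv.trans (TensorProduct.comm A' Z P).toAddEquiv))
  have hκ : ∀ (Z : Type u) [AddCommGroup Z] [Module A Z] [Module A' Z] [IsScalarTower A A' Z]
      (m : M) (z : Z), κ Z (m ⊗ₜ[A] z) = μ m ⊗ₜ[A'] z := fun Z _ _ _ _ m z => by
    simp [κ, IsBaseChange.equiv_tmul]
  refine EGA43.FlatOpen.rTensor_injective_localized i _ fun x hx => ?_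
  obtain ⟨z, rfl⟩ := (κ X).surjective x
  have hnat : ∀ z, κ Y (AlgebraTensorModule.lTensor B M iA z) =
      AlgebraTensorModule.lTensor B' P i (κ X z) := fun z => by
    induction z using TensorProduct.induction_on with
    | zero => simp
    | add u v hu hv => simp only [map_add, hu, hv]
    | tmul m v => simp [hκ, iA]
  have hlin : ∀ (b : B) z, κ X (b • z) = algebraMap B B' b • κ X z := fun b z => by
    induction z using TensorProduct.induction_on with
    | zero => simp
    | add u v hu hv => simp only [smul_add, map_add, hu, hv]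
    | tmul m v => simp only [TensorProduct.smul_tmul', hκ, hμB]
  obtain ⟨t, ht, htz⟩ := EGA43.FlatOpen.exists_smul_eq_zero_of_flat (S := B) iA hi T z
    ((κ Y).injective (by rw [hnat, hx, map_zero]))
  exact ⟨_, hT t ht, by rw [← hlin, htz, map_zero]⟩

open AlgebraicGeometry CategoryTheory CategoryTheory.Limits TopologicalSpace
open Groth.Agent.EGA43

/-- Base change of flatness at a point. -/
theorem isFlatOverAt_baseChange {X S X' S' : Scheme.{u}} {f : X ⟶ S} {f' : X' ⟶ S'} {g' : X' ⟶ X}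
    {g : S' ⟶ S} (H : IsPullback g' f' f g) (F : X.Modules) [Coh.IsQCoh F] (x' : X')
    (h : FlatMod.IsFlatOverAt f F (g' x')) :
    FlatMod.IsFlatOverAt f' ((Scheme.Modules.pullback g').obj F) x' := by
  have : Coh.IsQCoh ((Scheme.Modules.pullback g').obj F) := InjFibre.isQCoh_pullback g' F
  obtain ⟨T, hT, hsT, -⟩ := Opens.isBasis_iff_nbhd.mp S.isBasis_affineOpens
    (Opens.mem_top (f (g' x')))
  obtain ⟨U, hU, hxU, eU⟩ := Opens.isBasis_iff_nbhd.mp X.isBasis_affineOpens
    (show g' x' ∈ f ⁻¹ᵁ T from hsT)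
  have hgT : g (f' x') ∈ T := by
    rw [← Scheme.Hom.comp_apply, ← H.w]; exact hsT
  obtain ⟨T', hT', hsT', eT'⟩ := Opens.isBasis_iff_nbhd.mp S'.isBasis_affineOpens
    (show f' x' ∈ g ⁻¹ᵁ T from hgT)
  obtain ⟨W, hW⟩ : ∃ W, W = g' ⁻¹ᵁ U ⊓ f' ⁻¹ᵁ T' := ⟨_, rfl⟩
  have hWa : IsAffineOpen W := hW ▸ InjFibre.isAffineOpen_inf_preimage H hT hU hT' eU eT'
  have hxW : x' ∈ W := hW ▸ ⟨hxU, hsT'⟩
  have eW : W ≤ g' ⁻¹ᵁ U := hW.trans_le inf_le_left
  have eW' : W ≤ f' ⁻¹ᵁ T' := hW.trans_le inf_le_right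
  rw [QcohFlat.isFlatOverAt_iff f F hT hU eU hxU] at h
  rw [QcohFlat.isFlatOverAt_iff f' _ hT' hWa eW' hxW]
  obtain ⟨E⟩ := Flatn12.nonempty_pullback_sections_equiv g' F hU hWa eW
  have hp := (isIso_pushoutSection_iff H eT' eU hW).1
    (isIso_pushoutSection_of_isAffineOpen H eT' eU hW hT hT' hU)
  let _ := (f.appLE T U eU).hom.toAlgebra
  let _ := (g.appLE T T' eT').hom.toAlgebra
  let _ := (g'.appLE U W eW).hom.toAlgebra
  let _ := (f'.appLE T' W eW').hom.toAlgebra
  let _ : Algebra Γ(S, T) Γ(X', W) :=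
    ((g'.appLE U W eW).hom.comp (f.appLE T U eU).hom).toAlgebra
  have : IsScalarTower Γ(S, T) Γ(X, U) Γ(X', W) := .of_algebraMap_eq fun _ => rfl
  have : IsScalarTower Γ(S, T) Γ(S', T') Γ(X', W) :=
    .of_algebraMap_eq fun r => ConcreteCategory.congr_hom hp.w r
  have : Algebra.IsPushout Γ(S, T) Γ(X, U) Γ(S', T') Γ(X', W) :=
    CommRingCat.isPushout_iff_isPushout.1 hp
  have : Algebra.IsPushout Γ(S, T) Γ(S', T') Γ(X, U) Γ(X', W) := Algebra.IsPushout.symm inferInstance
  let _ := QcohFlat.overModule f F T U eU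
  have : IsScalarTower Γ(S, T) Γ(X, U) Γ(F, U) := IsScalarTower.of_algebraMap_smul fun _ _ => rfl
  let P := (Scheme.Modules.pullback g').obj F
  let _ : Module Γ(X, U) Γ(P, W) := Module.compHom Γ(P, W) (g'.appLE U W eW).hom
  let _ : Module Γ(S', T') Γ(P, W) := QcohFlat.overModule f' P T' W eW'
  let _ : Module Γ(S, T) Γ(P, W) :=
    Module.compHom Γ(P, W) ((g'.appLE U W eW).hom.comp (f.appLE T U eU).hom)
  have : IsScalarTower Γ(X, U) Γ(X', W) Γ(P, W) := IsScalarTower.of_algebraMap_smul fun _ _ => rfl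
  have : IsScalarTower Γ(S', T') Γ(X', W) Γ(P, W) :=
    IsScalarTower.of_algebraMap_smul fun _ _ => rfl
  have : IsScalarTower Γ(S, T) Γ(X, U) Γ(P, W) := IsScalarTower.of_algebraMap_smul fun _ _ => rfl
  have : IsScalarTower Γ(S, T) Γ(X', W) Γ(P, W) := IsScalarTower.of_algebraMap_smul fun _ _ => rfl
  have : IsScalarTower Γ(S, T) Γ(S', T') Γ(P, W) := IsScalarTower.of_algebraMap_smul fun r m => by
    show (f'.appLE T' W eW').hom ((g.appLE T T' eT').hom r) • m = _
    exact congrArg (· • m) (ConcreteCategory.congr_hom hp.w r).symm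
  let μ₀ : Γ(F, U) →ₗ[Γ(X, U)] Γ(P, W) :=
    (E.toLinearMap.restrictScalars Γ(X, U)) ∘ₗ (TensorProduct.mk Γ(X, U) Γ(X', W) Γ(F, U) 1)
  have hμ₀ : IsBaseChange Γ(X', W) μ₀ := IsBaseChange.of_equiv E fun _ => rfl
  have hμ : IsBaseChange Γ(S', T') (μ₀.restrictScalars Γ(S, T)) :=
    (Cons.isBaseChange_iff_of_isPushout (R := Γ(S, T)) (T := Γ(S', T')) (R' := Γ(X, U))
      (T' := Γ(X', W)) μ₀).1 hμ₀
  exact flat_localized_baseChange (μ₀.restrictScalars Γ(S, T)) hμ
    (fun b m => (μ₀.map_smul b m).trans (algebraMap_smul _ b _).symm)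
    (hU.primeIdealOf ⟨g' x', hxU⟩).asIdeal.primeCompl _ (fun t ht ht' => ht (by
      rw [← InjFibre.comap_primeIdealOf g' hU hWa eW hxW]; exact ht'))

end Groth.Agent.FlatMorStrata
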