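import Groth.Agent.FlatMorStrata.Affine
import Groth.Agent.FlatMorStrata.Extend
import Groth.Agent.FlatMorStrata.BaseChange

/-!
# Generic flatness stratification of a quasi-compact quasi-separated scheme
-/

universe u

set_option autoImplicit false
set_option backward.isDefEq.respectTransparency false

open TensorProduct Function AlgebraicGeometry CategoryTheory CategoryTheory.Limits TopologicalSpace
open Groth.Agent.EGA43

namespace Groth.Agent.FlatMorStrata

/-- A flat module stays flat after localisation along an algebra. -/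
theorem flat_localized_of_flat {A B : Type u} [CommRing A] [CommRing B] [Algebra A B]
    {M : Type u} [AddCommGroup M] [Module A M] [Module B M] [IsScalarTower A B M]
    [Module.Flat A M] (T : Submonoid B) : Module.Flat A (LocalizedModule T M) := by
  rw [Module.Flat.iff_rTensor_preserves_injective_linearMap]
  intro X Y _ _ _ _ i hi
  refine FlatOpen.rTensor_injective_localized i T fun x hx => ⟨1, T.one_mem, ?_⟩
  rw [one_smul]
  exact (injective_iff_map_eq_zero _).1 (Module.Flat.lTensor_preserves_injective_linearMap i hi) x hx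

variable {X S : Scheme.{u}}

/-- If the sections over a cartesian affine piece are flat, so is the pullback at its points. -/
theorem isFlatOverAt_of_flat_tensor {X' S' : Scheme.{u}} {f : X ⟶ S} {f' : X' ⟶ S'}
    {g' : X' ⟶ X} {g : S' ⟶ S} (H : IsPullback g' f' f g) (F : X.Modules) [Coh.IsQCoh F]
    {T : S.Opens} (hT : IsAffineOpen T) {U : X.Opens} (hU : IsAffineOpen U) (eU : U ≤ f ⁻¹ᵁ T)
    {T' : S'.Opens} (hT' : IsAffineOpen T') (eT' : T' ≤ g ⁻¹ᵁ T) {x' : X'}
    (hxU : g' x' ∈ U) (hsT' : f' x' ∈ T')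
    (h : letI := (g.appLE T T' eT').hom.toAlgebra
      letI := QcohFlat.overModule f F T U eU
      Module.Flat Γ(S', T') (Γ(S', T') ⊗[Γ(S, T)] Γ(F, U))) :
    FlatMod.IsFlatOverAt f' ((Scheme.Modules.pullback g').obj F) x' := by
  have : Coh.IsQCoh ((Scheme.Modules.pullback g').obj F) := InjFibre.isQCoh_pullback g' F
  obtain ⟨W, hW⟩ : ∃ W, W = g' ⁻¹ᵁ U ⊓ f' ⁻¹ᵁ T' := ⟨_, rfl⟩
  have hWa : IsAffineOpen W := hW ▸ InjFibre.isAffineOpen_inf_preimage H hT hU hT' eU eT'
  have hxW : x' ∈ W := hW ▸ ⟨hxU, hsT'⟩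
  have eW : W ≤ g' ⁻¹ᵁ U := hW.trans_le inf_le_left
  have eW' : W ≤ f' ⁻¹ᵁ T' := hW.trans_le inf_le_right
  rw [QcohFlat.isFlatOverAt_iff f' _ hT' hWa eW' hxW]
  obtain ⟨E⟩ := Flatn12.nonempty_pullback_sections_equiv g' F hU hWa eW
  have hp := (isIso_pushoutSection_iff H eT' eU hW).1
    (isIso_pushoutSection_of_isAffineOpen H eT' eU hW hT hT' hU)
  let _ := (f.appLE T U eU).hom.toAlgebra
  let _ := (g.appLE T T' eT').hom.toAlgebra
  let _ := (g'.appLE U W eW).hom.toAlgebra
  let _ := (f'.appLE T' W eW').hom.toAlgebra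
  let _ : Algebra Γ(S, T) Γ(X', W) :=
    ((g'.appLE U W eW).hom.comp (f.appLE T U eU).hom).toAlgebra
  have : IsScalarTower Γ(S, T) Γ(X, U) Γ(X', W) := .of_algebraMap_eq fun _ => rfl
  have : IsScalarTower Γ(S, T) Γ(S', T') Γ(X', W) :=
    .of_algebraMap_eq fun r => ConcreteCategory.congr_hom hp.w r
  have : Algebra.IsPushout Γ(S, T) Γ(X, U) Γ(S', T') Γ(X', W) :=
    CommRingCat.isPushout_iff_isPushout.1 hp
  have : Algebra.IsPushout Γ(S, T) Γ(S', T') Γ(X, U) Γ(X', W) := Algebra.IsPushout.symm inferInstance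
  let _ := QcohFlat.overModule f F T U eU
  have : IsScalarTower Γ(S, T) Γ(X, U) Γ(F, U) := IsScalarTower.of_algebraMap_smul fun _ _ => rfl
  let P := (Scheme.Modules.pullback g').obj F
  let _ : Module Γ(X, U) Γ(P, W) := Module.compHom Γ(P, W) (g'.appLE U W eW).hom
  let _ : Module Γ(S', T') Γ(P, W) := QcohFlat.overModule f' P T' W eW'
  let _ : Module Γ(S, T) Γ(P, W) :=
    Module.compHom Γ(P, W) ((g'.appLE U W eW).hom.comp (f.appLE T U eU).hom)
  have : IsScalarTower Γ(X, U) Γ(X', W) Γ(P, W) := IsScalarTower.of_algebraMap_smul fun _ _ => rfl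
  have : IsScalarTower Γ(S', T') Γ(X', W) Γ(P, W) :=
    IsScalarTower.of_algebraMap_smul fun _ _ => rfl
  have : IsScalarTower Γ(S, T) Γ(X, U) Γ(P, W) := IsScalarTower.of_algebraMap_smul fun _ _ => rfl
  have : IsScalarTower Γ(S, T) Γ(X', W) Γ(P, W) := IsScalarTower.of_algebraMap_smul fun _ _ => rfl
  have : IsScalarTower Γ(S, T) Γ(S', T') Γ(P, W) := IsScalarTower.of_algebraMap_smul fun r m => by
    show (f'.appLE T' W eW').hom ((g.appLE T T' eT').hom r) • m = _
    exact congrArg (· • m) (ConcreteCategory.congr_hom hp.w r).symm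
  let μ₀ : Γ(F, U) →ₗ[Γ(X, U)] Γ(P, W) :=
    (E.toLinearMap.restrictScalars Γ(X, U)) ∘ₗ (TensorProduct.mk Γ(X, U) Γ(X', W) Γ(F, U) 1)
  have hμ₀ : IsBaseChange Γ(X', W) μ₀ := IsBaseChange.of_equiv E fun _ => rfl
  have hμ : IsBaseChange Γ(S', T') (μ₀.restrictScalars Γ(S, T)) :=
    (Cons.isBaseChange_iff_of_isPushout (R := Γ(S, T)) (T := Γ(S', T')) (R' := Γ(X, U))
      (T' := Γ(X', W)) μ₀).1 hμ₀
  have : Module.Flat Γ(S', T') (Γ(S', T') ⊗[Γ(S, T)] Γ(F, U)) := h
  have : Module.Flat Γ(S', T') Γ(P, W) := Module.Flat.of_linearEquiv hμ.equiv.symm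
  exact flat_localized_of_flat _

/-- The stratum `V(I) ∖ V(I')`. -/
noncomputable abbrev strat (I I' : S.IdealSheafData) :
    ↑(I.subschemeι ⁻¹ᵁ I'.support.compl) ⟶ S :=
  (I.subschemeι ⁻¹ᵁ I'.support.compl).ι ≫ I.subschemeι

theorem strat_mem (I I' : S.IdealSheafData) (z : ↑(I.subschemeι ⁻¹ᵁ I'.support.compl)) :
    strat I I' z ∈ I.support ∧ strat I I' z ∉ I'.support := by
  refine ⟨?_, z.2⟩
  have : strat I I' z ∈ Set.range I.subschemeι := ⟨_, rfl⟩
  rwa [Scheme.IdealSheafData.range_subschemeι] at this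

/-- `F` is flat over the stratum `V(I) ∖ V(I')`. -/
def FlatStep (f : X ⟶ S) (F : X.Modules) (I I' : S.IdealSheafData) : Prop :=
  FlatMod.IsFlatOver (pullback.snd f (strat I I'))
    ((Scheme.Modules.pullback (pullback.fst f (strat I I'))).obj F)

/-- Chains of finite type ideal sheaves with flat strata. -/
inductive GReach (f : X ⟶ S) (F : X.Modules) : S.IdealSheafData → S.IdealSheafData → Prop
  | refl (I : S.IdealSheafData) : GReach f F I I
  | head {I I₁ I' : S.IdealSheafData} (h : I ≤ I₁) (hfg : ∀ V : S.affineOpens, (I₁.ideal V).FG)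
      (hs : FlatStep f F I I₁) (t : GReach f F I₁ I') : GReach f F I I'

theorem GReach.trans {f : X ⟶ S} {F : X.Modules} {I I₁ I₂ : S.IdealSheafData}
    (h : GReach f F I I₁) (h' : GReach f F I₁ I₂) : GReach f F I I₂ := by
  induction h with
  | refl => exact h'
  | head hle hfg hs _ ih => exact .head hle hfg hs (ih h')

theorem GReach.exists_chain {f : X ⟶ S} {F : X.Modules} {I I' : S.IdealSheafData}
    (h : GReach f F I I') (hI : ∀ V : S.affineOpens, (I.ideal V).FG) :
    ∃ (t : ℕ) (J : Fin (t + 1) → S.IdealSheafData), Monotone J ∧ J 0 = I ∧ J (Fin.last t) = I' ∧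
      (∀ i, ∀ V : S.affineOpens, ((J i).ideal V).FG) ∧
      ∀ i : Fin t, FlatStep f F (J i.castSucc) (J i.succ) := by
  induction h with
  | refl I => exact ⟨0, fun _ => I, monotone_const, rfl, rfl, fun _ => hI, fun i => i.elim0⟩
  | @head I I₁ I' hle hfg hs _ ih =>
    obtain ⟨t, J, hmon, h0, hl, hJ, hst⟩ := ih hfg
    refine ⟨t + 1, Fin.cons I J, Fin.monotone_iff_le_succ.2 fun i => ?_, rfl, ?_, fun i => ?_,
      fun i => ?_⟩
    · cases i using Fin.cases with
      | zero => simpa [h0] using hle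
      | succ i => simpa [← Fin.succ_castSucc] using hmon (Fin.castSucc_lt_succ (i := i)).le
    · rw [← Fin.succ_last, Fin.cons_succ, hl]
    · cases i using Fin.cases with
      | zero => simpa using hI
      | succ i => simpa using hJ i
    · cases i using Fin.cases with
      | zero => simpa [h0] using hs
      | succ i => simpa [← Fin.succ_castSucc] using hst i

/-- A finitely generated ideal sheaf whose support misses an affine open is trivial there. -/
theorem ideal_eq_top_of_disjoint (G : S.IdealSheafData) (U : S.affineOpens)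
    (h : ∀ x ∈ U.1, x ∉ G.support) : G.ideal U = ⊤ := by
  by_contra hne
  obtain ⟨m, hm, hle⟩ := Ideal.exists_le_maximal _ hne
  have hx : U.2.fromSpec ⟨m, hm.isPrime⟩ ∈ U.1 := by
    have : U.2.fromSpec ⟨m, hm.isPrime⟩ ∈ Set.range U.2.fromSpec := ⟨_, rfl⟩
    rwa [U.2.range_fromSpec] at this
  refine h _ hx ((G.mem_support_iff_of_mem hx).2 (Scheme.mem_zeroLocus_iff _ _ _ |>.2 fun f hf hxf => ?_))
  have : (⟨m, hm.isPrime⟩ : PrimeSpectrum Γ(S, U.1)) ∈ U.2.fromSpec ⁻¹ᵁ S.basicOpen f := hxf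
  rw [U.2.fromSpec_preimage_basicOpen] at this
  exact this (hle hf)

/-- Steps with equal supports. -/
theorem flatStep_of_support_eq {f : X ⟶ S} {F : X.Modules} {I I' : S.IdealSheafData}
    (h : I.support ≤ I'.support) : FlatStep f F I I' := fun x =>
  absurd (h (strat_mem I I' (pullback.snd f (strat I I') x)).1)
    (strat_mem I I' (pullback.snd f (strat I I') x)).2


/-- The property to be realised on the strata inside `U`. -/
def PropOn (f : X ⟶ S) (F : X.Modules) (U : S.affineOpens) (V : X.affineOpens)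
    (e : V.1 ≤ f ⁻¹ᵁ U.1) : AlgProp Γ(S, U.1) :=
  letI := QcohFlat.overModule f F U.1 V.1 e
  FlatProp Γ(S, U.1) Γ(F, V.1)

theorem fg_sup {W Z : S.IdealSheafData} (hW : ∀ V : S.affineOpens, (W.ideal V).FG)
    (hZ : ∀ V : S.affineOpens, (Z.ideal V).FG) (V : S.affineOpens) : ((W ⊔ Z).ideal V).FG := by
  rw [Scheme.IdealSheafData.ideal_sup, Pi.sup_apply]
  exact Submodule.FG.sup (hW V) (hZ V)

theorem fg_mul {W Z : S.IdealSheafData} (hW : ∀ V : S.affineOpens, (W.ideal V).FG)
    (hZ : ∀ V : S.affineOpens, (Z.ideal V).FG) (V : S.affineOpens) : ((W * Z).ideal V).FG := by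
  rw [Scheme.IdealSheafData.ideal_mul, Pi.mul_apply]
  exact Ideal.FG.mul (hW V) (hZ V)

variable [CompactSpace S] [QuasiSeparatedSpace S]

/-- The chain along the affine open `U`. -/
theorem greach_step (f : X ⟶ S) (F : X.Modules) [Coh.IsQCoh F] (U : S.affineOpens)
    (c : Finset {V : X.affineOpens // V.1 ≤ f ⁻¹ᵁ U.1})
    (hc : ∀ x, f x ∈ U.1 → ∃ V ∈ c, x ∈ V.1.1)
    (W Z : S.IdealSheafData) (hW : ∀ V : S.affineOpens, (W.ideal V).FG)
    (hZ : ∀ V : S.affineOpens, (Z.ideal V).FG) (hZs : (Z.support : Set S) = (U.1 : Set S)ᶜ)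
    {K K' : Ideal Γ(S, U.1)}
    (h : Reach (fun L [CommRing L] [Algebra Γ(S, U.1) L] => ∀ V ∈ c, PropOn f F U V.1 V.2 L) K K')
    (G : S.IdealSheafData) (hG : ∀ V : S.affineOpens, (G.ideal V).FG) (hGU : G.ideal U = K) :
    ∃ G' : S.IdealSheafData, (∀ V : S.affineOpens, (G'.ideal V).FG) ∧ G'.ideal U = K' ∧
      GReach f F (W ⊔ G * Z) (W ⊔ G' * Z) := by
  induction h generalizing G with
  | refl K => exact ⟨G, hG, hGU, .refl _⟩
  | @head J J₁ J' hle hfg hP _ ih =>
    obtain ⟨E, hE, hEU⟩ := exists_fg_extend U J₁ hfg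
    have hG₁U : (G ⊔ E).ideal U = J₁ := by
      rw [Scheme.IdealSheafData.ideal_sup, Pi.sup_apply, hGU, hEU, sup_eq_right.2 hle]
    have hG₁ : ∀ V : S.affineOpens, ((G ⊔ E).ideal V).FG := fun V => Submodule.FG.sup (hG V) (hE V)
    obtain ⟨G', hG', hG'U, hreach⟩ := ih (G ⊔ E) hG₁ hG₁U
    refine ⟨G', hG', hG'U, .head
      (sup_le_sup_left (fun V => Ideal.mul_mono_left (le_sup_left : G.ideal V ≤ G.ideal V ⊔ E.ideal V)) _)
      (fg_sup hW (fg_mul hG₁ hZ)) (fun x' => ?_) hreach⟩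
    let I := W ⊔ G * Z
    let I₁ := W ⊔ (G ⊔ E) * Z
    let t := strat I I₁
    let z := pullback.snd f t x'
    have hsub : ∀ w : ↑(I.subschemeι ⁻¹ᵁ I₁.support.compl), t w ∈ W.support ∧ t w ∉ Z.support := by
      intro w
      obtain ⟨h0, h1⟩ := strat_mem I I₁ w
      simp only [I, I₁, Scheme.IdealSheafData.support_sup, Scheme.IdealSheafData.support_mul] at h0 h1
      exact ⟨h0.1, fun hz => h1 ⟨h0.1, Or.inr hz⟩⟩
    have hzU : t z ∈ U.1 := by
      have := (hsub z).2
      rwa [← SetLike.mem_coe, hZs, Set.mem_compl_iff, not_not] at this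
    obtain ⟨T', hT', hzT', eT'⟩ := exists_isAffineOpen_mem_and_subset (x := z) (U := t ⁻¹ᵁ U.1) hzU
    have eT' : T' ≤ t ⁻¹ᵁ U.1 := eT'
    let _ := (t.appLE U.1 T' eT').hom.toAlgebra
    have hZU : Z.ideal U = ⊤ := ideal_eq_top_of_disjoint Z U fun y hy hy' => by
      rw [← SetLike.mem_coe, hZs] at hy'
      exact hy' hy
    have h0 : J.map (algebraMap Γ(S, U.1) Γ(↑(I.subschemeι ⁻¹ᵁ I₁.support.compl), T')) = ⊥ := by
      rw [eq_bot_iff, Ideal.map_le_iff_le_comap]
      intro a ha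
      have haI : a ∈ I.ideal U := by
        simp only [I, Scheme.IdealSheafData.ideal_sup, Scheme.IdealSheafData.ideal_mul, Pi.sup_apply,
          Pi.mul_apply, hZU, hGU, Ideal.mul_top]
        exact Ideal.mem_sup_right ha
      have hle' : I ≤ t.ker := by
        refine le_trans ?_ (Scheme.Hom.le_ker_comp _ I.subschemeι)
        rw [I.ker_subschemeι]
      have : (t.app U.1).hom a = 0 := RingHom.mem_ker.1 (t.ideal_ker_le U (hle' U haI))
      rw [Ideal.mem_comap, Ideal.mem_bot]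
      show (t.appLE U.1 T' eT').hom a = 0
      rw [Scheme.Hom.appLE, CommRingCat.hom_comp, RingHom.comp_apply, this, map_zero]
    have h1 : J₁.map (algebraMap Γ(S, U.1) Γ(↑(I.subschemeι ⁻¹ᵁ I₁.support.compl), T')) = ⊤ := by
      by_contra hne
      obtain ⟨m, hm, hle⟩ := Ideal.exists_le_maximal _ hne
      let y := hT'.fromSpec ⟨m, hm.isPrime⟩
      have hy : y ∈ T' := by
        have : y ∈ Set.range hT'.fromSpec := ⟨_, rfl⟩
        rwa [hT'.range_fromSpec] at this
      refine (strat_mem I I₁ y).2 ?_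
      have key : ∀ p, p ∈ W.support → p ∈ (G ⊔ E).support → p ∈ (W ⊔ (G ⊔ E) * Z).support :=
        fun p ha hb => by
          rw [Scheme.IdealSheafData.support_sup W, Scheme.IdealSheafData.support_mul]
          exact ⟨ha, Or.inl hb⟩
      refine key _ (hsub y).1 ?_
      have hyU : t y ∈ U.1 := eT' hy
      refine (((G ⊔ E).mem_support_iff_of_mem hyU).2
        (Scheme.mem_zeroLocus_iff _ _ _ |>.2 fun a ha hxa => ?_))
      have : y ∈ T' ⊓ t ⁻¹ᵁ S.basicOpen a := ⟨hy, hxa⟩
      rw [← Scheme.basicOpen_appLE _ _ _ eT'] at this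
      have : (⟨m, hm.isPrime⟩ : PrimeSpectrum _) ∈ hT'.fromSpec ⁻¹ᵁ
          (Scheme.basicOpen _ ((t.appLE U.1 T' eT').hom a)) := this
      rw [hT'.fromSpec_preimage_basicOpen] at this
      rw [hG₁U] at ha
      exact this (hle (Ideal.mem_map_of_mem _ ha))
    have hx : f (pullback.fst f t x') ∈ U.1 := by
      rw [← Scheme.Hom.comp_apply, pullback.condition]
      exact hzU
    obtain ⟨V, hV, hxV⟩ := hc _ hx
    exact isFlatOverAt_of_flat_tensor (IsPullback.of_hasPullback f t) F U.2 V.1.2 V.2 hT' eT' hxV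
      hzT' (hP _ h0 h1 V hV)

/-- A conjunction of finitely many stratifications. -/
theorem reach_forall {A : Type u} [CommRing A] {ι : Type*} (c : Finset ι) (P : ι → AlgProp A)
    (h : ∀ i ∈ c, Reach (P i) ⊥ ⊤) : Reach (fun L [CommRing L] [Algebra A L] => ∀ i ∈ c, P i L) ⊥ ⊤ := by
  classical
  induction c using Finset.induction with
  | empty =>
    exact .head bot_le ⟨{1}, by simp⟩ (fun L _ _ _ _ i hi => absurd hi (Finset.notMem_empty i))
      (.refl _)
  | @insert i s _ ih =>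
    refine (Reach.inf (h i (Finset.mem_insert_self _ _)) Submodule.fg_bot
      (ih fun j hj => h j (Finset.mem_insert_of_mem hj))).mono fun L _ _ hL j hj => ?_
    rcases Finset.mem_insert.1 hj with rfl | hj
    exacts [hL.2, hL.1 j hj]

theorem greach_affine (f : X ⟶ S) [LocallyOfFinitePresentation f] [QuasiCompact f] (F : X.Modules)
    [Coh.IsQCoh F] (hfp : CohB1.IsFP F) (U : S.affineOpens) (W Z : S.IdealSheafData)
    (hW : ∀ V : S.affineOpens, (W.ideal V).FG)
    (hZ : ∀ V : S.affineOpens, (Z.ideal V).FG) (hZs : (Z.support : Set S) = (U.1 : Set S)ᶜ) :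
    GReach f F W (W ⊔ Z) := by
  obtain ⟨c, hc⟩ := (f.isCompact_preimage U.2.isCompact).elim_finite_subcover
    (fun V : {V : X.affineOpens // V.1 ≤ f ⁻¹ᵁ U.1} => (V.1.1 : Set X)) (fun V => V.1.1.2)
    (fun x hx => by
      obtain ⟨V, hV, hxV, e⟩ := exists_isAffineOpen_mem_and_subset (x := x) (U := f ⁻¹ᵁ U.1) hx
      exact Set.mem_iUnion.2 ⟨⟨⟨V, hV⟩, e⟩, hxV⟩)
  have hreach := reach_forall c (fun V => PropOn f F U V.1 V.2) fun V _ => by
    let _ := (f.appLE U.1 V.1.1 V.2).hom.toAlgebra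
    let _ := QcohFlat.overModule f F U.1 V.1.1 V.2
    have : IsScalarTower Γ(S, U.1) Γ(X, V.1.1) Γ(F, V.1.1) :=
      IsScalarTower.of_algebraMap_smul fun _ _ => rfl
    have : Algebra.FinitePresentation Γ(S, U.1) Γ(X, V.1.1) :=
      HasRingHomProperty.appLE @LocallyOfFinitePresentation f inferInstance U V.1 V.2
    have := QcohFP.finitePresentation_sections F hfp V.1.2
    exact reach_of_finitePresentation (S := Γ(X, V.1.1))
  obtain ⟨G', hG', hG'U, hG'r⟩ := greach_step f F U c (fun x hx => by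
    obtain ⟨V, hV, hxV⟩ := Set.mem_iUnion₂.1 (hc hx)
    exact ⟨V, hV, hxV⟩) W Z hW hZ hZs hreach ⊥ (fun V => Submodule.fg_bot) rfl
  rw [Scheme.IdealSheafData.bot_mul, sup_bot_eq] at hG'r
  refine hG'r.trans (.head (sup_le_sup_left (fun V => (Ideal.mul_le_right : G'.ideal V * Z.ideal V ≤ Z.ideal V)) _)
    (fg_sup hW hZ) (flatStep_of_support_eq ?_) (.refl _))
  intro x hx
  simp only [Scheme.IdealSheafData.support_sup, Scheme.IdealSheafData.support_mul] at hx ⊢
  refine ⟨hx.1, hx.2.elim (fun hxG => ?_) id⟩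
  show x ∈ (Z.support : Set S)
  rw [hZs]
  intro hxU
  have h := (G'.mem_support_iff_of_mem hxU).1 hxG
  rw [hG'U] at h
  have := (Scheme.mem_zeroLocus_iff _ _ _).1 h 1 trivial
  rw [Scheme.basicOpen_of_isUnit _ isUnit_one] at this
  exact this hxU

/-- Generic flatness stratification. -/
theorem greach_top (f : X ⟶ S) [LocallyOfFinitePresentation f] [QuasiCompact f] (F : X.Modules)
    [Coh.IsQCoh F] (hfp : CohB1.IsFP F) : GReach f F ⊥ ⊤ := by
  classical
  obtain ⟨c, hc⟩ := isCompact_univ.elim_finite_subcover (fun V : S.affineOpens => (V.1 : Set S))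
    (fun V => V.1.2) (fun x _ => by
      obtain ⟨V, hV, hxV, -⟩ := exists_isAffineOpen_mem_and_subset (x := x) (U := ⊤) (Set.mem_univ _)
      exact Set.mem_iUnion.2 ⟨⟨V, hV⟩, hxV⟩)
  suffices ∀ s : Finset S.affineOpens, ∃ W : S.IdealSheafData,
      (∀ V : S.affineOpens, (W.ideal V).FG) ∧ GReach f F ⊥ W ∧
      ∀ U ∈ s, ∀ x ∈ U.1, x ∉ W.support by
    obtain ⟨W, -, hr, hdisj⟩ := this c
    have : W = ⊤ := by
      rw [← Scheme.IdealSheafData.support_eq_bot_iff, eq_bot_iff]
      intro x hx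
      obtain ⟨U, hU, hxU⟩ := Set.mem_iUnion₂.1 (hc (Set.mem_univ x))
      exact absurd hx (hdisj U hU x hxU)
    exact this ▸ hr
  intro s
  induction s using Finset.induction with
  | empty => exact ⟨⊥, fun V => Submodule.fg_bot, .refl _, by simp⟩
  | @insert U s _ ih =>
    obtain ⟨W, hW, hr, hdisj⟩ := ih
    obtain ⟨Z, hZ, hZs⟩ := exists_fg_support_compl U
    refine ⟨W ⊔ Z, fun V => Submodule.FG.sup (hW V) (hZ V), hr.trans (greach_affine f F hfp U W Z hW hZ hZs),
      fun U' hU' x hx hx' => ?_⟩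
    rw [Scheme.IdealSheafData.support_sup] at hx'
    rcases Finset.mem_insert.1 hU' with rfl | hU'
    · have : x ∈ (Z.support : Set S) := hx'.2
      rw [hZs] at this
      exact this hx
    · exact hdisj U' hU' x hx hx'.1

end Groth.Agent.FlatMorStrata
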