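import Groth.Agent.EGA43.FlatOpen
import Groth.Agent.EGA43.FlatDescent.Strata
import Groth.Agent.EGA43.FlatDescent.Model

/-!
# Generic flatness stratifications of affine schemes
-/

universe u

set_option autoImplicit false
set_option backward.isDefEq.respectTransparency false

open TensorProduct Function

namespace Groth.Agent.FlatMorStrata

/-- A property of the algebras over `A`. -/
abbrev AlgProp (A : Type u) [CommRing A] : Type (u + 1) :=
  ∀ (L : Type u) [CommRing L] [Algebra A L], Prop

/-- A chain of finitely generated ideals from `J` to `⊤` such that `P` holds for the algebras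
supported in one of the strata. -/
inductive Reach {A : Type u} [CommRing A] (P : AlgProp A) : Ideal A → Ideal A → Prop
  | refl (J : Ideal A) : Reach P J J
  | head {J J₁ J' : Ideal A} (h : J ≤ J₁) (hfg : J₁.FG)
      (hP : ∀ (L : Type u) [CommRing L] [Algebra A L],
        J.map (algebraMap A L) = ⊥ → J₁.map (algebraMap A L) = ⊤ → P L)
      (t : Reach P J₁ J') : Reach P J J'

variable {A : Type u} [CommRing A]

theorem Reach.trans {P : AlgProp A} {J J₁ J₂ : Ideal A} (h : Reach P J J₁) (h' : Reach P J₁ J₂) :
    Reach P J J₂ := by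
  induction h with
  | refl J => exact h'
  | head hle hfg hP _ ih => exact .head hle hfg hP (ih h')

/-- Refinement of a chain by another one. -/
theorem Reach.inf {P Q : AlgProp A} (hQ : Reach Q ⊥ ⊤) {J J' : Ideal A} (hJ : J.FG)
    (hP : Reach P J J') :
    Reach (fun L => P L ∧ Q L) J J' := by
  induction hP with
  | refl J => exact .refl J
  | @head J J₁ J' hle hfg hP₁ _ ih =>
    refine Reach.trans ?_ (ih hfg)
    suffices ∀ K K' : Ideal A, Reach Q K K' →
        Reach (fun L => P L ∧ Q L) (J ⊔ K * J₁) (J ⊔ K' * J₁) by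
      have := this ⊥ ⊤ hQ
      rwa [Ideal.bot_mul, sup_bot_eq, Ideal.top_mul, sup_eq_right.2 hle] at this
    intro K K' hK
    induction hK with
    | refl K => exact .refl _
    | @head K K₁ K' hK₁ hK₁fg hQ₁ _ ihK =>
      refine .head (sup_le_sup_left (Ideal.mul_mono_left hK₁) _)
        (Submodule.FG.sup hJ (hK₁fg.mul hfg)) (fun L _ _ h0 h1 => ?_) ihK
      rw [Ideal.map_sup, sup_eq_bot_iff, Ideal.map_mul] at h0
      rw [Ideal.map_sup, h0.1, bot_sup_eq, Ideal.map_mul] at h1
      have hJ1 : J₁.map (algebraMap A L) = ⊤ := top_le_iff.1 (h1.ge.trans Ideal.mul_le_right)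
      rw [hJ1, Ideal.mul_top] at h0 h1
      exact ⟨hP₁ L h0.1 hJ1, hQ₁ L h0.2 h1⟩

theorem Reach.mono {P Q : AlgProp A}
    (h : ∀ (L : Type u) [CommRing L] [Algebra A L], P L → Q L) {J J' : Ideal A} (hP : Reach P J J') :
    Reach Q J J' := by
  induction hP with
  | refl J => exact .refl J
  | head hle hfg hP _ ih => exact .head hle hfg (fun L _ _ h0 h1 => h L (hP L h0 h1)) ih

/-- Transport along a ring map. -/
theorem Reach.map {A₀ : Type u} [CommRing A₀] [Algebra A₀ A] {P₀ : AlgProp A₀} {P : AlgProp A}
    (h : ∀ (L : Type u) [CommRing L] [Algebra A L] [Algebra A₀ L] [IsScalarTower A₀ A L],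
      P₀ L → P L)
    {J J' : Ideal A₀} (hP : Reach P₀ J J') :
    Reach P (J.map (algebraMap A₀ A)) (J'.map (algebraMap A₀ A)) := by
  induction hP with
  | refl J => exact .refl _
  | head hle hfg hP _ ih =>
    refine .head (Ideal.map_mono hle) (hfg.map _) (fun L _ _ h0 h1 => ?_) ih
    let _ : Algebra A₀ L := ((algebraMap A L).comp (algebraMap A₀ A)).toAlgebra
    have : IsScalarTower A₀ A L := .of_algebraMap_eq fun _ => rfl
    rw [Ideal.map_map] at h0 h1
    exact h L (hP L h0 h1)

/-- Flatness of the base change of `M`. -/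
def FlatProp (R : Type u) [CommRing R] (M : Type u) [AddCommGroup M] [Module R M] : AlgProp R :=
  fun L _ _ => Module.Flat L (L ⊗[R] M)

variable {P₀ M₀ : Type u} [CommRing P₀] [Algebra A P₀] [Algebra.FiniteType A P₀] [AddCommGroup M₀]
  [Module A M₀] [Module P₀ M₀] [IsScalarTower A P₀ M₀] [Module.Finite P₀ M₀]

variable (P₀) in
include P₀ in
/-- Generic flatness stratification over a Noetherian ring. -/
theorem reach_of_noetherian [IsNoetherianRing A] (J : Ideal A) : Reach (FlatProp A M₀) J ⊤ := by
  classical
  induction J using IsNoetherian.induction (R := A) (M := A) with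
  | hgt J' ih =>
    obtain ⟨J, rfl⟩ : ∃ J : Ideal A, J = J' := ⟨J', rfl⟩
    by_cases hJ : J = ⊤
    · exact hJ ▸ .refl _
    by_cases hrad : J.radical ≤ J
    swap
    · refine .head Ideal.le_radical (IsNoetherian.noetherian _) (fun L _ _ h0 h1 => ?_)
        (ih _ (lt_of_le_of_ne Ideal.le_radical fun e => hrad e.ge))
      have := (Ideal.map_radical_le (I := J) (algebraMap A L))
      rw [h1, h0] at this
      have : IsNilpotent (1 : L) := mem_nilradical.1 (this Submodule.mem_top)
      obtain ⟨n, hn⟩ := this
      have : Subsingleton L := subsingleton_of_zero_eq_one (by rw [← hn, one_pow])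
      have : Subsingleton (L ⊗[A] M₀) := Module.subsingleton L _
      have : Module.Free L (L ⊗[A] M₀) := Module.Free.of_subsingleton L _
      exact Module.Flat.of_free
    obtain ⟨p, hp⟩ := Ideal.nonempty_minimalPrimes hJ
    have := hp.isPrime
    have hfin := Ideal.finite_minimalPrimes_of_isNoetherianRing A J
    have hb : ∀ P ∈ hfin.toFinset.erase p, ∃ x ∈ P, x ∉ p := fun P hP => by
      obtain ⟨hne, hP⟩ := Finset.mem_erase.1 hP
      refine SetLike.not_le_iff_exists.1 fun hle => hne (le_antisymm hle ?_)
      exact hp.2 (hfin.mem_toFinset.1 hP).1 hle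
    choose! x hxP hxp using hb
    let b := ∏ P ∈ hfin.toFinset.erase p, x P
    have hbp : b ∉ p := fun h => by
      obtain ⟨P, hP, hxP'⟩ := Ideal.IsPrime.prod_mem_iff.1 h
      exact hxp P hP hxP'
    have hnil : ∀ y ∈ p, b * y ∈ J := fun y hy => hrad (by
      rw [← Ideal.sInf_minimalPrimes, Ideal.mem_sInf]
      intro P hP
      by_cases h : P = p
      · exact h ▸ p.mul_mem_left _ hy
      · have hP' : P ∈ hfin.toFinset.erase p := Finset.mem_erase.2 ⟨h, hfin.mem_toFinset.2 hP⟩
        exact P.mul_mem_right _ (P.mem_of_dvd (Finset.dvd_prod_of_mem x hP') (hxP P hP')))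
    obtain ⟨f, hf0, hfree⟩ := EGA43.FlatOpen.gFree_baseChange A P₀ M₀ (A ⧸ p)
    obtain ⟨a, rfl⟩ := Ideal.Quotient.mk_surjective f
    have hap : a ∉ p := fun h => hf0 (Ideal.Quotient.eq_zero_iff_mem.2 h)
    have habp : a * b ∉ p := fun h => (hp.isPrime.mem_or_mem h).elim hap hbp
    refine .head (J₁ := J ⊔ Ideal.span {a * b}) le_sup_left (IsNoetherian.noetherian _)
      (fun L _ _ h0 h1 => ?_)
      (ih _ (left_lt_sup.2 fun hle => habp (hp.1.2 (hle (Ideal.mem_span_singleton_self _)))))
    rw [Ideal.map_sup, h0, bot_sup_eq, Ideal.map_span, Set.image_singleton,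
      Ideal.span_singleton_eq_top, map_mul] at h1
    have hua := isUnit_of_mul_isUnit_left h1
    have hub := isUnit_of_mul_isUnit_right h1
    let g : A ⧸ p →ₐ[A] L := Ideal.Quotient.liftₐ p (Algebra.ofId A L) fun y hy => by
      have : algebraMap A L (b * y) = 0 := by
        rw [← Ideal.mem_bot, ← h0]; exact Ideal.mem_map_of_mem _ (hnil y hy)
      rwa [map_mul, hub.mul_right_eq_zero] at this
    have hga : IsUnit (g (Ideal.Quotient.mk p a)) := hua
    let φ : Localization.Away (Ideal.Quotient.mk p a) →ₐ[A] L :=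
      { IsLocalization.Away.lift (S := Localization.Away (Ideal.Quotient.mk p a))
          (Ideal.Quotient.mk p a) (g := g.toRingHom) hga with
        commutes' := fun r => by
          show IsLocalization.Away.lift (S := Localization.Away (Ideal.Quotient.mk p a))
            (Ideal.Quotient.mk p a) (g := g.toRingHom) hga (algebraMap A _ r) = _
          rw [IsScalarTower.algebraMap_apply A (A ⧸ p) (Localization.Away (Ideal.Quotient.mk p a)),
            IsLocalization.Away.lift_eq]
          exact g.commutes r }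
    have hfree' : Module.Free (Localization.Away (Ideal.Quotient.mk p a))
        (Localization.Away (Ideal.Quotient.mk p a) ⊗[A] M₀) :=
      .of_equiv (AlgebraTensorModule.cancelBaseChange A (A ⧸ p) _
        (Localization.Away (Ideal.Quotient.mk p a)) M₀)
    have := EGA43.FlatDescent.free_of_hom φ hfree'
    exact Module.Flat.of_free

theorem flatProp_of_model (R₀ : Type u) [CommRing R₀] [Algebra R₀ A] {M N : Type u}
    [AddCommGroup M] [Module R₀ M] [AddCommGroup N] [Module A N] (e : A ⊗[R₀] M ≃ₗ[A] N)
    (L : Type u) [CommRing L] [Algebra A L] [Algebra R₀ L] [IsScalarTower R₀ A L]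
    (h : FlatProp R₀ M L) : FlatProp A N L :=
  @Module.Flat.of_linearEquiv _ _ _ _ _ _ _ _ h
    ((AlgebraTensorModule.congr (LinearEquiv.refl L L) e.symm) ≪≫ₗ
      AlgebraTensorModule.cancelBaseChange R₀ A L L M)

/-- Generic flatness stratification for a finitely presented module over a finitely presented
algebra over any ring. -/
theorem reach_of_finitePresentation {S N : Type u} [CommRing S] [Algebra A S]
    [Algebra.FinitePresentation A S] [AddCommGroup N] [Module S N] [Module A N]
    [IsScalarTower A S N] [Module.FinitePresentation S N] :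
    Reach (FlatProp A N) ⊥ ⊤ := by
  obtain ⟨R₀, hR₀, P₁, M₁, _, _, _, _, _, _, _, _, ψ, e, -, -⟩ :=
    EGA43.FlatDescent.exists_model_of_finitePresentation (A := A) (S := S) (N := N)
  have := (reach_of_noetherian P₁ (M₀ := M₁) (⊥ : Ideal R₀)).map (A := A) (P := FlatProp A N)
    (flatProp_of_model R₀ e)
  rwa [Ideal.map_bot, Ideal.map_top] at this

end Groth.Agent.FlatMorStrata
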